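import Mathlib
import Groth.Agent.H57.NoEmb.Defs
import Groth.Agent.H57.RelAssSU.Bridge
import Groth.Agent.H57.RelAssBC2

/-!
# (BC) the fibrewise no-embedded-point locus commutes with base change (helper57, S5871)
-/

set_option autoImplicit false
set_option linter.style.haveILetI false
universe u

open AlgebraicGeometry CategoryTheory Limits TopologicalSpace IsLocalRing

namespace Groth.Agent.H57.NoEmb.BC

open Groth.Agent.H7.SocleFlat Groth.Agent.H7.AssTensorFlat Groth.Agent.H57.RelAssBC

variable {W W' : Scheme.{u}}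

/-- Every point of a locally Noetherian scheme `W'` over `W` has a generization in its fibre at
which the fibre ring has a socle. -/
theorem exists_fibreSocle_gen (Φ : W' ⟶ W) [IsLocallyNoetherian W'] (w₀ : W') :
    ∃ w' : W', w' ⤳ w₀ ∧ Φ w' = Φ w₀ ∧
      (letI := (Φ.stalkMap w').hom.toAlgebra;
        FibreSocle (W.presheaf.stalk (Φ w')) (W'.presheaf.stalk w') (W'.presheaf.stalk w')) := by
  have hcoh := Groth.Agent.H8.isCoh_structureModule W'
  have hsupp : w₀ ∈ CohB1.support (Coh.structureModule W') := by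
    intro hsub
    haveI := hsub
    have : Subsingleton (W'.presheaf.stalk w₀) :=
      (LinearEquiv.ofBijective (Groth.Agent.H2.ConnComp.L W' w₀)
        (Groth.Agent.H2.ConnComp.L_bijective W' w₀)).toEquiv.subsingleton
    exact not_subsingleton _ this
  obtain ⟨x₀, hgen, hx₀, n, hn, hn'⟩ :=
    exists_fibAss_generization Φ (Coh.structureModule W') hcoh w₀ hsupp
  refine ⟨x₀, hgen, hx₀, ?_⟩
  letI := (Φ.stalkMap x₀).hom.toAlgebra
  let Le := LinearEquiv.ofBijective (Groth.Agent.H2.ConnComp.L W' x₀)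
    (Groth.Agent.H2.ConnComp.L_bijective W' x₀)
  refine ⟨Le.symm n, ?_, ?_⟩
  · intro hmem
    apply hn
    have := (mem_smul_top_iff_of_linearEquiv Le _ (Le.symm n)).mpr hmem
    rwa [LinearEquiv.apply_symm_apply] at this
  · intro b hb
    have h1 := hn' b hb
    have h2 : Le (b • Le.symm n) = b • n := by
      rw [map_smul, LinearEquiv.apply_symm_apply]
    rw [← h2] at h1
    exact (mem_smul_top_iff_of_linearEquiv Le _ _).mp h1

/-- (BC) the no-embedded-point locus commutes with arbitrary base change. -/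
theorem ne_preimage {X X' S S' : Scheme.{u}} (f : X ⟶ S) [LocallyOfFiniteType f]
    (F : X.Modules) [F.IsQuasicoherent] (g : S' ⟶ S) (f' : X' ⟶ S') (g' : X' ⟶ X)
    (sq : IsPullback g' f' f g) :
    NE f' ((Scheme.Modules.pullback g').obj F) = g ⁻¹' NE f F := by
  haveI : LocallyOfFiniteType f' := MorphismProperty.of_isPullback sq ‹_›
  haveI hqc' : ((Scheme.Modules.pullback g').obj F).IsQuasicoherent :=
    Groth.Agent.H8.isQuasicoherent_pullback _ F
  ext s'
  have hsq := isPullback_fiberToSpecResidueField_of_isPullback sq s'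
  obtain ⟨Φ, hΦ⟩ : ∃ Φ : f'.fiber s' ⟶ f.fiber (g s'), Φ = pullback.map _ _ _ _ g'
      (Spec.map (g.residueFieldMap s')) g sq.w.symm (by simp) := ⟨_, rfl⟩
  rw [← hΦ] at hsq
  have a3 : Φ ≫ f.fiberι (g s') = f'.fiberι s' ≫ g' := by
    rw [hΦ]; exact pullback.lift_fst _ _ _
  have core := fun w' => isAssPoint_baseChange_iff_core f F g f' g' s' Φ hsq a3 w'
  have onto := (relAss_baseChange_core f F g f' g' s' Φ hsq a3).2
  have hfl1 : Flat (Spec.map (g.residueFieldMap s')) :=
    Groth.Agent.H57.FibCmp.flat_specMap_residueFieldMap g s'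
  haveI hΦfl : Flat Φ := MorphismProperty.of_isPullback hsq.flip hfl1
  haveI := isLocallyNoetherian_fiber f (g s')
  haveI := isLocallyNoetherian_fiber f' s'
  have hcomm : ∀ v : ↥(f'.fiber s'), g' (f'.fiberι s' v) = f.fiberι (g s') (Φ v) :=
    fun v => (congr(($a3) v)).symm
  show AssSch.NoEmbedded _ ↔ AssSch.NoEmbedded _
  constructor
  · intro h' w hw v hv hvw
    obtain ⟨w', hw'w, hw'R⟩ := onto w
      ((Groth.Agent.H57.RelAssSU.mem_ass_fiber_iff f F _ w).mp hw)
    have hw'A : w' ∈ AssSch.Ass ((Scheme.Modules.pullback (f'.fiberι s')).obj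
        ((Scheme.Modules.pullback g').obj F)) :=
      (Groth.Agent.H57.RelAssSU.mem_ass_fiber_iff f' _ s' w').mpr hw'R
    have hgen : GeneralizingMap Φ := Flat.generalizingMap Φ
    obtain ⟨v'', hv''w', hv''v⟩ := hgen (a := w') (b := v) (by rw [hw'w]; exact hvw)
    obtain ⟨v', hv'v'', hΦv', hsoc⟩ := exists_fibreSocle_gen Φ v''
    have hΦv'v : Φ v' = v := hΦv'.trans hv''v
    have hv'A : v' ∈ AssSch.Ass ((Scheme.Modules.pullback (f'.fiberι s')).obj
        ((Scheme.Modules.pullback g').obj F)) := by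
      show Curv2.IsAssPoint _ v'
      rw [show Curv2.IsAssPoint ((Scheme.Modules.pullback (f'.fiberι s')).obj
          ((Scheme.Modules.pullback g').obj F)) v' ↔ _ from
        isAssociatedPrime_maximalIdeal_iff _ _,
        hasSocle_fibre_baseChange_iff f F g f' g' s' Φ hsq a3 v']
      refine ⟨?_, hsoc⟩
      rw [← show Curv2.IsAssPoint ((Scheme.Modules.pullback (f.fiberι (g s'))).obj F) (Φ v') ↔ _
        from isAssociatedPrime_maximalIdeal_iff _ _, hΦv'v]
      exact hv
    have h1 : w' = v' := h' w' hw'A v' hv'A (hv'v''.trans hv''w')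
    rw [← hw'w, ← hΦv'v, h1]
  · intro h w' hw' v' hv' hvw
    have hw := (core w').mp hw'
    have hv := (core v').mp hv'
    have h1 : Φ w' = Φ v' := h (Φ w') hw.1 (Φ v') hv.1 (hvw.map Φ.continuous)
    have h2 := hw.2 (f'.fiberι s' v') (Groth.Agent.H57.RelAssSU.fiberι_apply_fiber f' s' v')
      (by rw [hcomm, hcomm, h1]) (hvw.map (f'.fiberι s').continuous)
    exact ((f'.fiberι s').isEmbedding.injective h2).symm

end Groth.Agent.H57.NoEmb.BC
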