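import Mathlib
import Groth.Agent.H57.NoEmb.Defs
import Groth.Agent.H57.RelAssBC2

set_option autoImplicit false
universe u
open AlgebraicGeometry CategoryTheory Limits TopologicalSpace

namespace Groth.Agent.H57.NoEmb.Iso

theorem ass_eq_of_iso {Z : Scheme.{u}} {M N : Z.Modules} (e : M ≅ N) :
    AssSch.Ass M = AssSch.Ass N := by
  ext x
  show IsAssociatedPrime _ _ ↔ IsAssociatedPrime _ _
  exact LinearEquiv.isAssociatedPrime_iff
    (LinearEquiv.ofBijective (Groth.Agent.H17.StalkSeq.stalkMapₗ e.hom x)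
      (Groth.Agent.H17.ReflSheaf.stalkMap_bijective_of_isIso e.hom x))

/-- (ISO) `NoEmbedded` is invariant under isomorphisms of modules. -/
theorem noEmbedded_iff_of_iso {Z : Scheme.{u}} {M N : Z.Modules} (e : M ≅ N) :
    AssSch.NoEmbedded M ↔ AssSch.NoEmbedded N := by
  unfold AssSch.NoEmbedded
  rw [ass_eq_of_iso e]

end Groth.Agent.H57.NoEmb.Iso
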