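import Mathlib
import Groth.Agent.H24.ConsLocus

set_option autoImplicit false
universe u
open AlgebraicGeometry CategoryTheory Limits TopologicalSpace

namespace Groth.Agent.H57.NoEmb.LcPre

/-- (LCPRE) preimages of locally constructible sets under morphisms of schemes. -/
theorem isLocallyConstructible_preimage {X Y : Scheme.{u}} (h : X ⟶ Y) (T : Set Y)
    (hT : Topology.IsLocallyConstructible T) : Topology.IsLocallyConstructible (h ⁻¹' T) := by
  rw [Groth.Agent.S3402.result] at hT ⊢
  obtain ⟨h1, h2⟩ := hT
  refine ⟨Groth.Agent.S15543.result h T h1, ?_⟩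
  rw [Groth.Agent.H17.isProConstructible_iff_compl] at h2 ⊢
  exact Groth.Agent.S15543.result h Tᶜ h2

end Groth.Agent.H57.NoEmb.LcPre
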