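import Mathlib
import Groth.Agent.H57.NoEmb.Defs
import Groth.Agent.H57.RelAssSU.Key
import Groth.Agent.H57.RelAssSU.Bridge
import Groth.Agent.H57.RelAssGen.RowGeneric

/-!
# (NEG) for S5871 (helper57; insurance copy)
-/

set_option autoImplicit false
set_option linter.style.haveILetI false
universe u

open AlgebraicGeometry CategoryTheory Limits TopologicalSpace
open Groth.Agent.H57.RelAssSU

namespace Groth.Agent.H57.NoEmb.Neg

/-- (NEG) over an integral Noetherian base, if the generic fibre has an embedded point then so do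
all fibres over a neighbourhood of the generic point. -/
theorem neg_generic {X S : Scheme.{u}} [IsIntegral S] [IsNoetherian S]
    (f : X ⟶ S) [LocallyOfFiniteType f] [QuasiCompact f]
    (F : X.Modules) (hF : Coh.IsCoh F) (hη : genericPoint S ∉ NE f F) :
    ∃ U : S.Opens, genericPoint S ∈ U ∧ ∀ s ∈ U, s ∉ NE f F := by
  haveI hq : F.IsQuasicoherent := hF.1
  replace hη : ¬ AssSch.NoEmbedded
      ((Scheme.Modules.pullback (f.fiberι (genericPoint S))).obj F) := hη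
  unfold AssSch.NoEmbedded at hη
  push Not at hη
  obtain ⟨zx, hzx, zy, hzy, hyx, hne⟩ := hη
  obtain ⟨x₀, hx₀⟩ : ∃ x₀ : X, x₀ = f.fiberι (genericPoint S) zx := ⟨_, rfl⟩
  obtain ⟨y₀, hy₀⟩ : ∃ y₀ : X, y₀ = f.fiberι (genericPoint S) zy := ⟨_, rfl⟩
  have hx₀R : x₀ ∈ MoreMor.relAss f F := by
    rw [hx₀]; exact (mem_ass_fiber_iff f F _ zx).mp hzx
  have hy₀R : y₀ ∈ MoreMor.relAss f F := by
    rw [hy₀]; exact (mem_ass_fiber_iff f F _ zy).mp hzy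
  have hfx₀ : f x₀ = genericPoint S := by rw [hx₀]; exact fiberι_apply_fiber f _ zx
  have hfy₀ : f y₀ = genericPoint S := by rw [hy₀]; exact fiberι_apply_fiber f _ zy
  have hy₀x₀ : y₀ ⤳ x₀ := by
    rw [hx₀, hy₀]; exact (fiberι_specializes_iff f _ zx zy).mpr hyx
  have hnsp : ¬ x₀ ⤳ y₀ := by
    intro h
    have h1 : x₀ = y₀ := (h.antisymm hy₀x₀).eq
    rw [hx₀, hy₀] at h1
    exact hne (fiberι_injective f _ h1)
  obtain ⟨U, hηU, K1, -, K3⟩ := key f F hF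
  obtain ⟨_, ⟨V₀, hV₀, rfl⟩, hxV₀, -⟩ := S.isBasis_affineOpens.exists_subset_of_mem_open
    (Set.mem_univ (f x₀)) isOpen_univ
  replace hV₀ : IsAffineOpen V₀ := hV₀
  obtain ⟨_, ⟨W, hW, rfl⟩, hx₀W, e⟩ := X.isBasis_affineOpens.exists_subset_of_mem_open
    (show x₀ ∈ ((f ⁻¹ᵁ V₀ : X.Opens) : Set X) from hxV₀) (f ⁻¹ᵁ V₀).isOpen
  replace hW : IsAffineOpen W := hW
  replace e : W ≤ f ⁻¹ᵁ V₀ := e
  obtain ⟨a, ha, -, hii⟩ :=
    Groth.Agent.H57.RelAssGen.chart_generic f F hF hV₀ hW e x₀ hx₀W hx₀R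
  refine ⟨U ⊓ S.basicOpen a, ⟨hηU, by rw [← hfx₀]; exact ha⟩, fun s hs hsNE => ?_⟩
  have hηs : f x₀ ⤳ s := by
    rw [hfx₀]; exact (genericPoint_spec S).specializes trivial
  obtain ⟨x₁, -, hx₀x₁, hfx₁, hx₁R⟩ := hii s hs.2 hηs
  obtain ⟨v, hy₀v, hvx₁, hfv, hmin⟩ := exists_fibMin f y₀ x₁ (hy₀x₀.trans hx₀x₁)
  have hfvs : f v = s := hfv.trans hfx₁
  have hfvU : f v ∈ U := by rw [hfvs]; exact hs.1
  have hvR : v ∈ MoreMor.relAss f F := K1 y₀ v hy₀R hfy₀ hy₀v hfvU hmin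
  have hnv : ¬ x₀ ⤳ v := K3 y₀ x₀ v hy₀R hfy₀ hx₀R hfx₀ hnsp hy₀v hfvU hmin
  obtain ⟨z₁, hz₁⟩ := exists_fiberι_eq f s x₁ hfx₁
  obtain ⟨zv, hzv⟩ := exists_fiberι_eq f s v hfvs
  have hz₁A : z₁ ∈ AssSch.Ass ((Scheme.Modules.pullback (f.fiberι s)).obj F) :=
    (mem_ass_fiber_iff f F s z₁).mpr (by rw [hz₁]; exact hx₁R)
  have hzvA : zv ∈ AssSch.Ass ((Scheme.Modules.pullback (f.fiberι s)).obj F) :=
    (mem_ass_fiber_iff f F s zv).mpr (by rw [hzv]; exact hvR)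
  have hsp : zv ⤳ z₁ := (fiberι_specializes_iff f s z₁ zv).mp (by rw [hz₁, hzv]; exact hvx₁)
  have h1 : z₁ = zv := hsNE z₁ hz₁A zv hzvA hsp
  apply hnv
  rw [← hzv, ← h1, hz₁]
  exact hx₀x₁

end Groth.Agent.H57.NoEmb.Neg
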