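import Mathlib
import Groth.Agent.H57.NoEmb.Defs
import Groth.Agent.H57.RelAssSU.Key
import Groth.Agent.H57.RelAssSU.Bridge

/-!
# (POS) for S5871: the coherent form of S5872 (helper57)
-/

set_option autoImplicit false
set_option linter.style.haveILetI false
universe u

open AlgebraicGeometry CategoryTheory Limits TopologicalSpace

namespace Groth.Agent.H57.NoEmb.Pos

/-- (POS) over an integral Noetherian base, if the generic fibre has no embedded point then
neither do the fibres over a neighbourhood of the generic point. -/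
theorem pos_generic {X S : Scheme.{u}} [IsIntegral S] [IsNoetherian S]
    (f : X ⟶ S) [LocallyOfFiniteType f] [QuasiCompact f]
    (F : X.Modules) (hF : Coh.IsCoh F) (hη : genericPoint S ∈ NE f F) :
    ∃ U : S.Opens, genericPoint S ∈ U ∧ ∀ s ∈ U, s ∈ NE f F := by
  haveI hq : F.IsQuasicoherent := hF.1
  replace hη : AssSch.NoEmbedded ((Scheme.Modules.pullback (f.fiberι (genericPoint S))).obj F) :=
    hη
  obtain ⟨U, hηU, -, K2, K3⟩ := Groth.Agent.H57.RelAssSU.key f F hF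
  refine ⟨U, hηU, fun s hs x hx y hy hyx => ?_⟩
  have hx' := (Groth.Agent.H57.RelAssSU.mem_ass_fiber_iff f F s x).mp hx
  have hy' := (Groth.Agent.H57.RelAssSU.mem_ass_fiber_iff f F s y).mp hy
  have hfx : f (f.fiberι s x) = s := Groth.Agent.H57.RelAssSU.fiberι_apply_fiber f s x
  have hfy : f (f.fiberι s y) = s := Groth.Agent.H57.RelAssSU.fiberι_apply_fiber f s y
  have hxU : f (f.fiberι s x) ∈ U := by rw [hfx]; exact hs
  have hyU : f (f.fiberι s y) ∈ U := by rw [hfy]; exact hs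
  obtain ⟨x₀, hx₀R, hfx₀, hx₀x, hminx⟩ := K2 _ hx' hxU
  obtain ⟨y₀, hy₀R, hfy₀, hy₀y, hminy⟩ := K2 _ hy' hyU
  have hyx' : f.fiberι s y ⤳ f.fiberι s x :=
    (Groth.Agent.H57.RelAssSU.fiberι_specializes_iff f s x y).mpr hyx
  by_cases h : y₀ ⤳ x₀
  · obtain ⟨zx, hzx⟩ := Groth.Agent.H57.RelAssSU.exists_fiberι_eq f _ x₀ hfx₀
    obtain ⟨zy, hzy⟩ := Groth.Agent.H57.RelAssSU.exists_fiberι_eq f _ y₀ hfy₀
    have hzxA : zx ∈ AssSch.Ass ((Scheme.Modules.pullback (f.fiberι (genericPoint S))).obj F) :=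
      (Groth.Agent.H57.RelAssSU.mem_ass_fiber_iff f F _ zx).mpr (by rw [hzx]; exact hx₀R)
    have hzyA : zy ∈ AssSch.Ass ((Scheme.Modules.pullback (f.fiberι (genericPoint S))).obj F) :=
      (Groth.Agent.H57.RelAssSU.mem_ass_fiber_iff f F _ zy).mpr (by rw [hzy]; exact hy₀R)
    have hzz : zx = zy := hη zx hzxA zy hzyA
      ((Groth.Agent.H57.RelAssSU.fiberι_specializes_iff f _ zx zy).mp (by rw [hzx, hzy]; exact h))
    have hxy₀ : x₀ = y₀ := by rw [← hzx, ← hzy, hzz]
    have h1 := hminx (f.fiberι s y) (by rw [hxy₀]; exact hy₀y) hyx' (by rw [hfx, hfy])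
    exact (Groth.Agent.H57.RelAssSU.fiberι_injective f s h1).symm
  · exact absurd (hy₀y.trans hyx') (K3 x₀ y₀ _ hx₀R hfx₀ hy₀R hfy₀ h hx₀x hxU hminx)

end Groth.Agent.H57.NoEmb.Pos
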