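import Mathlib
import Groth.Agent.H57.NoEmb.Defs
import Groth.Agent.H57.NoEmb.BC
import Groth.Agent.H57.NoEmb.Pos
import Groth.Agent.H57.NoEmb.Iso
import Groth.Agent.H57.NoEmb.LcPre
import Groth.Agent.H57.NoEmb.Neg
import Groth.Agent.H9.NE_CHART
import Groth.Agent.H45.NE_MODEL
import Groth.Agent.H57.RelAssSU.Key
import Groth.Agent.H57.RelAssSU.Bridge
import Groth.Agent.H57.RelAssBC2
import Groth.Agent.H24.ConsLocus
import Groth.Agent.H42.FPKernel

/-!
# Glue file for S5871: the squad pieces under one namespace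

(CHART) helper9, (MODEL) helper45, (BC)+(POS)+(NEG)+(ISO)+(LCPRE) helper57.
-/

set_option autoImplicit false
set_option linter.style.haveILetI false
universe u

open AlgebraicGeometry CategoryTheory Limits TopologicalSpace

namespace Groth.Agent.H57.NoEmb

/-- (ISO) `NoEmbedded` is invariant under isomorphisms of modules. -/
theorem noEmbedded_iff_of_iso {Z : Scheme.{u}} {M N : Z.Modules} (e : M ≅ N) :
    AssSch.NoEmbedded M ↔ AssSch.NoEmbedded N :=
  Groth.Agent.H57.NoEmb.Iso.noEmbedded_iff_of_iso e

/-- (BC) the no-embedded-point locus commutes with arbitrary base change. -/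
theorem ne_preimage {X X' S S' : Scheme.{u}} (f : X ⟶ S) [LocallyOfFiniteType f]
    (F : X.Modules) [F.IsQuasicoherent] (g : S' ⟶ S) (f' : X' ⟶ S') (g' : X' ⟶ X)
    (sq : IsPullback g' f' f g) :
    NE f' ((Scheme.Modules.pullback g').obj F) = g ⁻¹' NE f F :=
  Groth.Agent.H57.NoEmb.BC.ne_preimage f F g f' g' sq

/-- (CHART) the no-embedded-point locus is the intersection of the loci of the members of an
open cover of the source. -/
theorem ne_eq_iInter_of_iSup_eq_top {X S : Scheme.{u}} (f : X ⟶ S) [LocallyOfFiniteType f]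
    (F : X.Modules) [F.IsQuasicoherent] {ι : Type*} (W : ι → X.Opens) (hW : ⨆ i, W i = ⊤) :
    NE f F = ⋂ i, NE ((W i).ι ≫ f) ((Scheme.Modules.pullback (W i).ι).obj F) :=
  Groth.Agent.H9.NEChart.ne_eq_iInter_of_iSup_eq_top f F W hW

/-- (MODEL) affine Noetherian model of a finitely presented morphism of affine schemes together
with a finitely presented module. -/
theorem exists_noetherian_model_affine {X S : Scheme.{u}} [IsAffine X] [IsAffine S] (f : X ⟶ S)
    [LocallyOfFinitePresentation f] (F : X.Modules) [F.IsQuasicoherent] (hF : CohB1.IsFP F) :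
    ∃ (S₀ X₀ : Scheme.{u}) (h : S ⟶ S₀) (f₀ : X₀ ⟶ S₀) (eX : X ⟶ X₀) (F₀ : X₀.Modules),
      IsNoetherian S₀ ∧ LocallyOfFiniteType f₀ ∧ QuasiCompact f₀ ∧ IsPullback eX f f₀ h ∧
        Coh.IsCoh F₀ ∧ Nonempty (F ≅ (Scheme.Modules.pullback eX).obj F₀) :=
  Groth.Agent.H45.NE_MODEL.exists_noetherian_model_affine f F hF

/-- (NEG) over an integral Noetherian base, if the generic fibre has an embedded point then so do
all fibres over a neighbourhood of the generic point. -/
theorem neg_generic {X S : Scheme.{u}} [IsIntegral S] [IsNoetherian S]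
    (f : X ⟶ S) [LocallyOfFiniteType f] [QuasiCompact f]
    (F : X.Modules) (hF : Coh.IsCoh F) (hη : genericPoint S ∉ NE f F) :
    ∃ U : S.Opens, genericPoint S ∈ U ∧ ∀ s ∈ U, s ∉ NE f F :=
  Groth.Agent.H57.NoEmb.Neg.neg_generic f F hF hη

/-- (POS) over an integral Noetherian base, if the generic fibre has no embedded point then
neither do the fibres over a neighbourhood of the generic point. -/
theorem pos_generic {X S : Scheme.{u}} [IsIntegral S] [IsNoetherian S]
    (f : X ⟶ S) [LocallyOfFiniteType f] [QuasiCompact f]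
    (F : X.Modules) (hF : Coh.IsCoh F) (hη : genericPoint S ∈ NE f F) :
    ∃ U : S.Opens, genericPoint S ∈ U ∧ ∀ s ∈ U, s ∈ NE f F :=
  Groth.Agent.H57.NoEmb.Pos.pos_generic f F hF hη

/-- (LCPRE) preimages of locally constructible sets under morphisms of schemes. -/
theorem isLocallyConstructible_preimage {X Y : Scheme.{u}} (h : X ⟶ Y) (T : Set Y)
    (hT : Topology.IsLocallyConstructible T) : Topology.IsLocallyConstructible (h ⁻¹' T) :=
  Groth.Agent.H57.NoEmb.LcPre.isLocallyConstructible_preimage h T hT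

end Groth.Agent.H57.NoEmb
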